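import Groth.Agent.AlgSpLib.LimPresLfp.System
import Groth.Agent.AlgStLib.FppfSite
import Groth.Agent.LimSm.Cover
import Groth.Agent.LimSm.Flat
import Groth.Prelude.Def_AlgSpRep

/-!
# Finite affine fppf coverings of affine schemes and their descent to a stage of a limit
-/

set_option backward.isDefEq.respectTransparency false
set_option backward.isDefEq.respectTransparency.types false

universe u

open CategoryTheory Limits Opposite AlgebraicGeometry AlgSp

namespace Groth.Agent.AlgSpLib.LimPresShf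

variable {S : Scheme.{u}}

/-- A finite fppf covering by affine schemes. -/
structure IsAffCov {T : Over S} {ι : Type u} (V : ι → Over S) (v : ∀ m, V m ⟶ T) : Prop where
  finite : Finite ι
  aff : ∀ m, IsAffine (V m).left
  flat : ∀ m, Flat (v m).left
  lfp : ∀ m, LocallyOfFinitePresentation (v m).left
  surj : ∀ x : T.left, ∃ m, x ∈ Set.range (v m).left

theorem isAffine_pullback {A B C : Over S} (f : A ⟶ C) (g : B ⟶ C) [IsAffine A.left] [IsAffine B.left]
    [IsAffine C.left] : IsAffine (pullback f g).left := by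
  have : IsAffine (pullback ((Over.forget S).map f) ((Over.forget S).map g)) :=
    inferInstanceAs (IsAffine (pullback f.left g.left))
  exact IsAffine.of_isIso ((IsPullback.of_hasPullback f g).map (Over.forget S)).isoPullback.hom

namespace IsAffCov

variable {T : Over S} {ι : Type u} {V : ι → Over S} {v : ∀ m, V m ⟶ T}

theorem mem (h : IsAffCov V v) : Sieve.ofArrows V v ∈ J S T := by
  rw [GrothendieckTopology.mem_over_iff]
  refine GrothendieckTopology.superset_covering _ ?_ (Precoverage.generate_mem_toGrothendieck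
    (J := Scheme.fppfPrecoverage) (R := Presieve.ofArrows (fun m => (V m).left) fun m => (v m).left) ?_)
  · rw [Sieve.generate_le_iff]
    rintro _ _ ⟨m⟩
    rw [Sieve.overEquiv_iff]
    convert (Sieve.ofArrows V v).downward_closed (Sieve.ofArrows_mk V v m)
      (Over.homMk (U := Over.mk ((v m).left ≫ T.hom)) (V := V m) (𝟙 (V m).left) (by simp)) using 1
    ext
    simp
  · rw [Scheme.fppfPrecoverage, Scheme.ofArrows_mem_precoverage_iff]
    exact ⟨h.surj, fun m => ⟨h.flat m, h.lfp m⟩⟩

theorem refl (T : Over S) [IsAffine T.left] :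
    IsAffCov (fun _ : PUnit.{u + 1} => T) (fun _ => 𝟙 T) where
  finite := inferInstance
  aff _ := inferInstance
  flat _ := inferInstanceAs (Flat (𝟙 _))
  lfp _ := inferInstanceAs (LocallyOfFinitePresentation (𝟙 _))
  surj x := ⟨PUnit.unit, x, rfl⟩

theorem baseChange [IsAffine T.left] (h : IsAffCov V v) {T' : Over S} [IsAffine T'.left] (φ : T' ⟶ T) :
    IsAffCov (fun m => pullback (v m) φ) (fun m => pullback.snd (v m) φ) where
  finite := h.finite
  aff m := by
    have := h.aff m
    exact isAffine_pullback _ _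
  flat m := MorphismProperty.of_isPullback ((IsPullback.of_hasPullback (v m) φ).map (Over.forget S)) (h.flat m)
  lfp m := MorphismProperty.of_isPullback ((IsPullback.of_hasPullback (v m) φ).map (Over.forget S)) (h.lfp m)
  surj x := by
    obtain ⟨m, y, hy⟩ := h.surj (φ.left x)
    obtain ⟨z, -, hz⟩ := Scheme.exists_preimage_of_isPullback
      ((IsPullback.of_hasPullback (v m) φ).map (Over.forget S)) y x hy
    exact ⟨m, z, hz⟩

theorem bind (h : IsAffCov V v) {κ : ι → Type u} {W : ∀ m, κ m → Over S} {w : ∀ m n, W m n ⟶ V m}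
    (hW : ∀ m, IsAffCov (W m) (w m)) :
    IsAffCov (fun q : Σ m, κ m => W q.1 q.2) (fun q => w q.1 q.2 ≫ v q.1) where
  finite := by
    have := h.finite
    have := fun m => (hW m).finite
    infer_instance
  aff q := (hW q.1).aff q.2
  flat q := by
    have := h.flat q.1
    have := (hW q.1).flat q.2
    rw [Over.comp_left]
    infer_instance
  lfp q := by
    have := h.lfp q.1
    have := (hW q.1).lfp q.2
    rw [Over.comp_left]
    infer_instance
  surj x := by
    obtain ⟨m, y, rfl⟩ := h.surj x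
    obtain ⟨n, z, rfl⟩ := (hW m).surj y
    exact ⟨⟨m, n⟩, z, by rw [Over.comp_left, Scheme.Hom.comp_apply]⟩

end IsAffCov

/-- A flat, locally finitely presented covering family of an affine scheme is refined by a finite
affine covering. -/
theorem exists_affCov_refine {T : Over S} [CompactSpace ↥T.left] {ι : Type*} (V : ι → Over S)
    (v : ∀ m, V m ⟶ T) (hf : ∀ m, Flat (v m).left) (hp : ∀ m, LocallyOfFinitePresentation (v m).left)
    (hs : ∀ x : T.left, ∃ m, x ∈ Set.range (v m).left) :
    ∃ (κ : Type u) (W : κ → Over S) (w : ∀ n, W n ⟶ T), IsAffCov W w ∧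
      ∀ n, ∃ (m : ι) (r : W n ⟶ V m), r ≫ v m = w n := by
  have hT : ∀ t : ↥T.left, ∃ (m : ι) (i : (V m).left.affineOpenCover.I₀)
      (x : ↥(Spec ((V m).left.affineOpenCover.X i))),
        ((V m).left.affineOpenCover.f i ≫ (v m).left) x = t := by
    intro t
    obtain ⟨m, y, rfl⟩ := hs t
    obtain ⟨i, x, rfl⟩ := (V m).left.affineOpenCover.openCover.exists_eq y
    exact ⟨m, i, x, rfl⟩
  choose m i x hx using hT
  have : ∀ t, IsOpenImmersion ((V (m t)).left.affineOpenCover.f (i t)) := fun t =>
    (V (m t)).left.affineOpenCover.openCover.map_prop (i t)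
  obtain ⟨s, hs'⟩ := isCompact_univ.elim_finite_subcover
    (fun t => Set.range ((V (m t)).left.affineOpenCover.f (i t) ≫ (v (m t)).left))
    (fun t => by
      have := hf (m t)
      have := hp (m t)
      exact ((V (m t)).left.affineOpenCover.f (i t) ≫ (v (m t)).left).isOpenMap.isOpen_range)
    (fun t _ => Set.mem_iUnion.2 ⟨t, x t, hx t⟩)
  refine ⟨{t // t ∈ s}, fun t => Over.mk ((V (m t.1)).left.affineOpenCover.f (i t.1) ≫ (V (m t.1)).hom),
    fun t => (Over.homMk ((V (m t.1)).left.affineOpenCover.f (i t.1)) rfl : _ ⟶ V (m t.1)) ≫ v (m t.1),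
    ⟨inferInstance, fun t => inferInstanceAs (IsAffine (Spec _)), fun t => ?_, fun t => ?_, fun t => ?_⟩,
    fun t => ⟨m t.1, Over.homMk ((V (m t.1)).left.affineOpenCover.f (i t.1)) rfl, rfl⟩⟩
  · have := hf (m t.1)
    exact inferInstanceAs (Flat ((V (m t.1)).left.affineOpenCover.f (i t.1) ≫ (v (m t.1)).left))
  · have := hp (m t.1)
    exact inferInstanceAs
      (LocallyOfFinitePresentation ((V (m t.1)).left.affineOpenCover.f (i t.1) ≫ (v (m t.1)).left))
  · obtain ⟨t₀, ht₀, y, hy⟩ := Set.mem_iUnion₂.1 (hs' (Set.mem_univ t))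
    exact ⟨⟨t₀, ht₀⟩, y, hy⟩

/-- A covering sieve of an affine scheme contains a finite affine covering. -/
theorem exists_affCov_of_mem {T : Over S} [IsAffine T.left] {R : Sieve T} (hR : R ∈ J S T) :
    ∃ (κ : Type u) (W : κ → Over S) (w : ∀ n, W n ⟶ T), IsAffCov W w ∧ ∀ n, R (w n) := by
  obtain ⟨ι, V, v, hf, hp, hs, hR'⟩ := AlgStLib.exists_fppf_of_mem_J hR
  obtain ⟨κ, W, w, hW, hr⟩ := exists_affCov_refine V v hf hp hs
  refine ⟨κ, W, w, hW, fun n => ?_⟩
  obtain ⟨m, r, hr⟩ := hr n
  exact hr ▸ R.downward_closed (hR' m) r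

/-- A covering of a limit of affine schemes is refined by the pull back of one from a stage. -/
theorem exists_descend_affCov {I : Type u} [SmallCategory I] [IsCofiltered I] (D : I ⥤ Over S)
    (hD : ∀ i, IsAffine (D.obj i).left) (c : Cone D) (hc : IsLimit ((Over.forget S).mapCone c))
    {ι : Type u} {U : ι → Over S} {u : ∀ a, U a ⟶ c.pt} (hU : IsAffCov U u) [IsAffine c.pt.left] :
    ∃ (k : I) (κ : Type u) (V : κ → Over S) (v : ∀ m, V m ⟶ D.obj k), IsAffCov V v ∧
      ∀ m, ∃ (a : ι) (q : pullback (v m) (c.π.app k) ⟶ U a),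
        q ≫ u a = pullback.snd (v m) (c.π.app k) := by
  have := IsCofiltered.isConnected I
  have : ∀ i, IsAffine ((D ⋙ Over.forget S).obj i) := hD
  have : ∀ {i j : I} (f : i ⟶ j), IsAffineHom ((D ⋙ Over.forget S).map f) := fun f => inferInstance
  have : IsAffine ((Over.forget S).mapCone c).pt := inferInstanceAs (IsAffine c.pt.left)
  have : ∀ a, IsAffine (U a).left := hU.aff
  have : ∀ a, LocallyOfFinitePresentation (u a).left := hU.lfp
  have : ∀ a, IsAffineHom (u a).left := fun a => inferInstance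
  obtain ⟨k, n, V, v, a, e, hv, hcov, hsq⟩ := LimSm.exists_descend_cover_aux (P := @Flat)
    LimSm.core_flat (fun {X Y} f _ _ => f.isOpenMap.isOpen_range)
    (D ⋙ Over.forget S) ((Over.forget S).mapCone c) hc (fun a => (U a).left) (fun a => (u a).left)
    hU.flat hU.surj
  have : CompactSpace ↥(D.obj k).left := inferInstance
  obtain ⟨κ, W, w, hW, hr⟩ := exists_affCov_refine (T := D.obj k) (ι := ULift.{u} (Fin n))
    (fun j => Over.mk (v j.down ≫ (D.obj k).hom)) (fun j => Over.homMk (v j.down) rfl)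
    (fun j => (hv j.down).1) (fun j => (hv j.down).2.1) (fun x => by
      obtain ⟨j, hj⟩ := hcov x
      exact ⟨⟨j⟩, hj⟩)
  refine ⟨k, κ, W, w, hW, fun m => ?_⟩
  obtain ⟨j, r, hrw⟩ := hr m
  let P := pullback (w m) (c.π.app k)
  have hcond : (pullback.fst (w m) (c.π.app k) ≫ r).left ≫ v j.down =
      (pullback.snd (w m) (c.π.app k)).left ≫ (c.π.app k).left := by
    refine Eq.trans ?_ ((congrArg (fun φ => Over.Hom.left φ) (pullback.condition (f := w m) (g := c.π.app k))).trans (Over.comp_left _ _ _ _ _))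
    rw [← hrw]
    simp
  let l : P.left ⟶ (U (a j.down)).left := (hsq j.down).lift _ _ hcond
  have hl : l ≫ (u (a j.down)).left = (pullback.snd (w m) (c.π.app k)).left :=
    (hsq j.down).lift_snd _ _ hcond
  refine ⟨a j.down, Over.homMk l ?_, Over.OverMorphism.ext hl⟩
  rw [← Over.w (u (a j.down)), ← Category.assoc, hl]
  exact Over.w _

/-- Sections of a separated presheaf agree if they agree on a covering. -/
theorem ext_of_affCov {F : PSp S} (hF : Presheaf.IsSheaf (J S) F) {T : Over S} {ι : Type u}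
    {V : ι → Over S} {v : ∀ m, V m ⟶ T} (h : IsAffCov V v) {z z' : F.obj (op T)}
    (hz : ∀ m, F.map (v m).op z = F.map (v m).op z') : z = z' := by
  refine (((isSheaf_iff_isSheaf_of_type _ _).1 hF).isSeparated _ h.mem).ext fun T' φ hφ => ?_
  obtain ⟨_, ψ, _, ⟨m⟩, rfl⟩ := hφ
  rw [op_comp, Functor.map_comp_apply, Functor.map_comp_apply, hz m]

/-- Compatible sections on a covering glue. -/
theorem exists_amalgamation {F : PSp S} (hF : Presheaf.IsSheaf (J S) F) {T : Over S} {ι : Type u}
    {V : ι → Over S} {v : ∀ m, V m ⟶ T} (h : IsAffCov V v) (z : ∀ m, F.obj (op (V m)))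
    (hz : ∀ m n, F.map (pullback.fst (v m) (v n)).op (z m) = F.map (pullback.snd (v m) (v n)).op (z n)) :
    ∃ z₀ : F.obj (op T), ∀ m, F.map (v m).op z₀ = z m := by
  have h1 : Presieve.IsSheafFor F (Presieve.ofArrows V v) := by
    rw [Presieve.isSheafFor_iff_generate]
    exact (isSheaf_iff_isSheaf_of_type _ _).1 hF _ h.mem
  obtain ⟨z₀, hz₀, -⟩ := (Presieve.isSheafFor_arrows_iff F v).1 h1 z (fun m n Z gm gn w => by
    rw [← pullback.lift_fst gm gn w]
    conv_rhs => rw [← pullback.lift_snd gm gn w]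
    rw [op_comp, op_comp, Functor.map_comp_apply, Functor.map_comp_apply, hz m n])
  exact ⟨z₀, hz₀⟩

end Groth.Agent.AlgSpLib.LimPresShf
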