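import Groth.Agent.AlgSpLib.LimPresShf.Sheafify

/-!
# Limit preservation of a sheaf is local for fppf coverings of the base
-/

set_option backward.isDefEq.respectTransparency false
set_option backward.isDefEq.respectTransparency.types false
set_option linter.unusedSectionVars false

universe u

open CategoryTheory Limits Opposite AlgebraicGeometry AlgSp

namespace Groth.Agent.AlgSpLib.LimPresShf

variable {S : Scheme.{u}}

/-- Sections of `F` together with a map to `U`. -/
def sectionsOver (F : PSp S) (U : Over S) : PSp S where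
  obj T := F.obj T × ULift.{u + 1} (T.unop ⟶ U)
  map f := ↾fun q => (F.map f q.1, ⟨f.unop ≫ q.2.down⟩)
  map_id T := by
    refine ConcreteCategory.hom_ext _ _ fun q => ?_
    simp
  map_comp f g := by
    refine ConcreteCategory.hom_ext _ _ fun q => ?_
    simp

/-- The maps to `U`, as a presheaf. -/
def homsTo (U : Over S) : PSp S where
  obj T := ULift.{u + 1} (T.unop ⟶ U)
  map f := ↾fun q => ⟨f.unop ≫ q.down⟩
  map_id T := by
    refine ConcreteCategory.hom_ext _ _ fun q => ?_
    simp
  map_comp f g := by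
    refine ConcreteCategory.hom_ext _ _ fun q => ?_
    simp

/-- The projection to the maps to `U`. -/
def sectionsProj (F : PSp S) (U : Over S) : sectionsOver F U ⟶ homsTo U where
  app _ := ↾fun q => q.2
  naturality _ _ _ := rfl

theorem relLP_sectionsProj (F : PSp S) (U : Over S)
    (h : IsLimitPreserving (S := U.left) ((Over.map U.hom).op ⋙ F)) :
    AlgSpPts.RelLP (sectionsProj F U) := by
  have key : ∀ ⦃I : Type u⦄ [SmallCategory I] [IsCofiltered I] (D : I ⥤ Over S) (c : Cone D),
    IsLimit ((Over.forget S).mapCone c) → (∀ i, IsAffine (D.obj i).left) → IsAffine c.pt.left →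
    ∀ (i : I) (g : D.obj i ⟶ U),
      (∀ (x : F.obj (op c.pt)), ∃ (k : I) (f : k ⟶ i) (z : F.obj (op (D.obj k))),
          F.map (c.π.app k).op z = x) ∧
      (∀ (x x' : F.obj (op (D.obj i))), F.map (c.π.app i).op x = F.map (c.π.app i).op x' →
        ∃ (k : I) (f : k ⟶ i), F.map (D.map f).op x = F.map (D.map f).op x') := by
    intro I _ _ D c hc hD hT i g
    let D' : CategoryTheory.Over i ⥤ Over U.left :=
      { obj := fun f => Over.mk (D.map f.hom ≫ g).left
        map := fun {f f'} φ => Over.homMk (D.map φ.left).left (by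
          change (D.map φ.left).left ≫ (D.map f'.hom ≫ g).left = (D.map f.hom ≫ g).left
          rw [← Over.comp_left, ← D.map_comp_assoc, Over.w φ])
        map_id := fun f => by ext; simp
        map_comp := fun f f' => by ext; simp }
    let c' : Cone D' :=
      { pt := Over.mk (c.π.app i ≫ g).left
        π :=
          { app := fun f => Over.homMk (c.π.app f.left).left (by
              change (c.π.app f.left).left ≫ (D.map f.hom ≫ g).left = (c.π.app i ≫ g).left
              rw [← Over.comp_left, ← Category.assoc, c.w])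
            naturality := fun f f' φ => by
              ext
              simp [D']
              rw [← Over.comp_left, c.w] } }
    have hc' : IsLimit ((Over.forget U.left).mapCone c') :=
      (Functor.Initial.isLimitWhiskerEquiv (CategoryTheory.Over.forget i) _).symm hc
    obtain ⟨hcol⟩ := h D' c' hc' (fun f => hD f.left) hT
    let e : ∀ f : CategoryTheory.Over i, (Over.map U.hom).obj (D'.obj f) ⟶ D.obj f.left := fun f =>
      Over.homMk (𝟙 _) ((Category.id_comp _).trans (Over.w (D.map f.hom ≫ g)).symm)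
    let e' : ∀ f : CategoryTheory.Over i, D.obj f.left ⟶ (Over.map U.hom).obj (D'.obj f) := fun f =>
      Over.homMk (𝟙 _) ((Category.id_comp _).trans (Over.w (D.map f.hom ≫ g)))
    let d : (Over.map U.hom).obj c'.pt ⟶ c.pt :=
      Over.homMk (𝟙 _) ((Category.id_comp _).trans (Over.w (c.π.app i ≫ g)).symm)
    let d' : c.pt ⟶ (Over.map U.hom).obj c'.pt :=
      Over.homMk (𝟙 _) ((Category.id_comp _).trans (Over.w (c.π.app i ≫ g)))
    refine ⟨fun x => ?_, fun x x' hx => ?_⟩
    · obtain ⟨f, z, hz⟩ := Types.jointly_surjective_of_isColimit hcol (F.map d.op x)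
      refine ⟨f.unop.left, f.unop.hom, F.map (e' f.unop).op z, ?_⟩
      have h1 : F.map ((Over.map U.hom).map (c'.π.app f.unop)).op z = F.map d.op x := hz
      rw [AlgSpPts.map_map', show c.π.app f.unop.left ≫ e' f.unop =
          d' ≫ (Over.map U.hom).map (c'.π.app f.unop) from
          Over.OverMorphism.ext ((Category.comp_id _).trans (Category.id_comp _).symm),
        ← AlgSpPts.map_map']
      refine ((congrArg (F.map d'.op) h1).trans (AlgSpPts.map_map' F d' d x)).trans ?_
      rw [show d' ≫ d = 𝟙 _ from Over.OverMorphism.ext (Category.id_comp _), op_id, Functor.map_id_apply]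
    · let f₀ : CategoryTheory.Over i := CategoryTheory.Over.mk (𝟙 i)
      have hh : (Over.map U.hom).map (c'.π.app f₀) ≫ e f₀ = d ≫ c.π.app i :=
        Over.OverMorphism.ext ((Category.comp_id _).trans (Category.id_comp _).symm)
      have h1 : F.map ((Over.map U.hom).map (c'.π.app f₀)).op (F.map (e f₀).op x) =
          F.map ((Over.map U.hom).map (c'.π.app f₀)).op (F.map (e f₀).op x') := by
        refine (AlgSpPts.map_map' F _ _ x).trans (Eq.trans ?_ (AlgSpPts.map_map' F _ _ x').symm)
        rw [hh]
        exact (AlgSpPts.map_map' F d (c.π.app i) x).symm.trans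
          ((congrArg _ hx).trans (AlgSpPts.map_map' F d (c.π.app i) x'))
      obtain ⟨f, φ, hφ⟩ := (Types.FilteredColimit.isColimit_eq_iff' hcol _ _).1 h1
      refine ⟨f.unop.left, f.unop.hom, ?_⟩
      have h2 : F.map ((Over.map U.hom).map (D'.map φ.unop)).op (F.map (e f₀).op x) =
          F.map ((Over.map U.hom).map (D'.map φ.unop)).op (F.map (e f₀).op x') := hφ
      have hφ' : e' f.unop ≫ (Over.map U.hom).map (D'.map φ.unop) ≫ e f₀ = D.map f.unop.hom := by
        apply Over.OverMorphism.ext
        have hw : φ.unop.left = f.unop.hom := (Category.comp_id _).symm.trans (Over.w φ.unop)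
        rw [← hw]
        exact (Category.id_comp _).trans (Category.comp_id _)
      rw [← hφ']
      refine (AlgSpPts.map_map' F (e' f.unop) _ x).symm.trans (Eq.trans ?_ (AlgSpPts.map_map' F (e' f.unop) _ x'))
      exact congrArg _ ((AlgSpPts.map_map' F _ (e f₀) x).symm.trans (h2.trans (AlgSpPts.map_map' F _ (e f₀) x')))
  refine ⟨fun I _ _ D c hc hD hT i y x hx => ?_, fun I _ _ D c hc hD hT i x x' h1 h2 => ?_⟩
  · obtain ⟨k, f, z, hz⟩ := (key D c hc hD hT i y.down).1 x.1
    refine ⟨k, f, (z, ⟨D.map f ≫ y.down⟩), rfl, Prod.ext hz (ULift.ext _ _ ?_)⟩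
    show c.π.app k ≫ D.map f ≫ y.down = x.2.down
    rw [← Category.assoc, c.w f]
    exact (congrArg ULift.down hx).symm
  · obtain ⟨k, f, hk⟩ := (key D c hc hD hT i x.2.down).2 x.1 x'.1 (congrArg Prod.fst h2)
    exact ⟨k, f, Prod.ext hk (congrArg (fun q : ULift.{u + 1} (D.obj i ⟶ U) => ULift.up (D.map f ≫ q.down)) h1)⟩

variable {I : Type u} [SmallCategory I] [IsCofiltered I] {D : I ⥤ Over S} {i : I}

/-- The scheme over a stage admits a map to a member of the covering. -/
def QIn {ι : Type u} (U : ι → Over S) : StageProp D i := fun _ W _ => ∃ j, Nonempty (W ⟶ U j)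

theorem local_qIn (hD : ∀ j, IsAffine (D.obj j).left) {ι : Type u} (U : ι → Over S)
    (hfl : ∀ j, Flat (U j).hom) (hfp : ∀ j, LocallyOfFinitePresentation (U j).hom)
    (hsurj : ∀ s : ↥S, ∃ (j : ι) (x : ↥(U j).left), (U j).hom.base x = s) :
    Local (QIn (D := D) (i := i) U) := by
  have := hD i
  let P : ι → Over S := fun j => Over.mk (pullback.fst (D.obj i).hom (U j).hom ≫ (D.obj i).hom)
  let v : ∀ j, P j ⟶ D.obj i := fun j => Over.homMk (pullback.fst (D.obj i).hom (U j).hom) rfl
  obtain ⟨κ, W, w, hW, hr⟩ := exists_affCov_refine (T := D.obj i) P v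
    (fun j => MorphismProperty.pullback_fst (P := @Flat) _ _ (hfl j))
    (fun j => MorphismProperty.pullback_fst (P := @LocallyOfFinitePresentation) _ _ (hfp j))
    (fun x => by
      obtain ⟨j, y, hy⟩ := hsurj ((D.obj i).hom x)
      obtain ⟨z, hz, -⟩ := Scheme.exists_preimage_of_isPullback
        (IsPullback.of_hasPullback (D.obj i).hom (U j).hom) x y hy.symm
      exact ⟨j, z, hz⟩)
  refine ⟨CategoryTheory.Over.mk (𝟙 i), κ, W, w, hW, fun n => ?_⟩
  obtain ⟨j, r, -⟩ := hr n
  exact ⟨j, ⟨r ≫ Over.homMk (pullback.snd (D.obj i).hom (U j).hom) pullback.condition.symm⟩⟩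

theorem isLimitPreserving_of_fppfLocally {F : PSp S} (hF : Presheaf.IsSheaf (J S) F) {ι : Type u}
    (U : ι → Over S) (hfl : ∀ j, Flat (U j).hom) (hfp : ∀ j, LocallyOfFinitePresentation (U j).hom)
    (hsurj : ∀ s : ↥S, ∃ (j : ι) (x : ↥(U j).left), (U j).hom.base x = s)
    (hloc : ∀ j, IsLimitPreserving (S := (U j).left) ((Over.map (U j).hom).op ⋙ F)) :
    IsLimitPreserving F := by
  have hR := fun j => relLP_sectionsProj F (U j) (hloc j)
  have hpt : Presheaf.IsSheaf (J S) (pt S) :=
    Presheaf.isSheaf_of_isTerminal (J S) Types.isTerminalPUnit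
  have hinj : StageInj (toPt F) := by
    intro I _ _ D c hc hD hT i z z' _ hlim
    have := hD
    refine exists_eq_of_local hF ((local_qIn hD U hfl hfp hsurj).bind hD (isMono_qEq z z')
      fun o W _ w ⟨j, ⟨g⟩⟩ => ?_)
    obtain ⟨l, φ, hlf⟩ := exists_eq_along hD hc hT (a := sectionsProj F (U j)) (hR j).inj w
      (F.map (w ≫ D.map o.hom).op z, ⟨g⟩) (F.map (w ≫ D.map o.hom).op z', ⟨g⟩) rfl (by
        refine Prod.ext ?_ rfl
        show F.map (pullback.fst w (c.π.app o.left)).op (F.map (w ≫ D.map o.hom).op z) =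
          F.map (pullback.fst w (c.π.app o.left)).op (F.map (w ≫ D.map o.hom).op z')
        rw [AlgSpPts.map_map', AlgSpPts.map_map', pullback.condition_assoc, c.w,
          ← AlgSpPts.map_map' F, ← AlgSpPts.map_map' F]
        exact congrArg _ hlim)
    refine localAt_of_stage hD w (o' := CategoryTheory.Over.mk (φ ≫ o.hom))
      (CategoryTheory.Over.homMk φ rfl) ?_
    show F.map (pullback.snd w (D.map φ) ≫ D.map (φ ≫ o.hom)).op z =
      F.map (pullback.snd w (D.map φ) ≫ D.map (φ ≫ o.hom)).op z'
    rw [D.map_comp, ← pullback.condition_assoc]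
    exact ((AlgSpPts.map_map' F _ (w ≫ D.map o.hom) z).symm.trans (congrArg Prod.fst hlf)).trans
      (AlgSpPts.map_map' F _ (w ≫ D.map o.hom) z')
  refine isLimitPreserving_of_relLP (a := toPt F) ⟨fun I _ _ D c hc hD hT i y x hxy => ?_, hinj⟩
    (fun _ => inferInstanceAs (Subsingleton PUnit.{u + 2})) (fun _ => ⟨PUnit.unit⟩)
  have := hD
  refine exists_lift_of_local hD hc hT hF hpt hinj ((local_qIn hD U hfl hfp hsurj).bind hD
    (isMono_qLift y x) fun o W _ w ⟨j, ⟨g⟩⟩ => ?_)
  obtain ⟨l, φ, zz, -, hz⟩ := exists_lift_along hD hc hT (a := sectionsProj F (U j)) (hR j).surj w ⟨g⟩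
    (F.map (pullback.snd w (c.π.app o.left)).op x, ⟨pullback.fst w (c.π.app o.left) ≫ g⟩) rfl
  refine localAt_of_stage hD w (o' := CategoryTheory.Over.mk (φ ≫ o.hom))
    (CategoryTheory.Over.homMk φ rfl) ⟨zz.1, rfl, ?_⟩
  show F.map (pullback.fst (pullback.snd w (D.map φ)) (c.π.app l)).op zz.1 =
    F.map (pullback.snd (pullback.snd w (D.map φ)) (c.π.app l)).op x
  let e : pullback (pullback.snd w (D.map φ)) (c.π.app l) ⟶ pullback w (c.π.app o.left) :=
    pullback.lift (pullback.fst _ _ ≫ pullback.fst _ _) (pullback.snd _ _) (by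
      rw [Category.assoc, pullback.condition, pullback.condition_assoc, c.w φ])
  have he : pullback.fst (pullback.snd w (D.map φ)) (c.π.app l) =
      e ≫ pullback.lift (f := w) (g := D.map φ) (pullback.fst w (c.π.app o.left))
        (pullback.snd w (c.π.app o.left) ≫ c.π.app l)
        (by rw [pullback.condition, Category.assoc, c.w φ]) := by
    apply pullback.hom_ext
    · simp [e]
    · simp only [e, Category.assoc, pullback.lift_snd, pullback.lift_snd_assoc]
      exact pullback.condition
  rw [he, ← AlgSpPts.map_map' F e]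
  refine (congrArg (F.map e.op) (congrArg Prod.fst hz)).trans ?_
  refine (AlgSpPts.map_map' F e _ x).trans ?_
  simp only [e, pullback.lift_snd]
  rfl

end Groth.Agent.AlgSpLib.LimPresShf
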