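import Groth.Agent.AlgSpLib.LimPresShf.Stage

/-!
# Limit preservation passes to sheafifications
-/

set_option backward.isDefEq.respectTransparency false
set_option backward.isDefEq.respectTransparency.types false
set_option linter.unusedSectionVars false

universe u

open CategoryTheory Limits Opposite AlgebraicGeometry AlgSp

namespace Groth.Agent.AlgSpLib.LimPresShf

variable {S : Scheme.{u}} {F G F' G' : PSp S} (a : F ⟶ G) (a' : F' ⟶ G') (α : F ⟶ F') (β : G ⟶ G')
  (hsq : α ≫ a' = a ≫ β) [Presheaf.IsLocallyInjective (J S) α] [Presheaf.IsLocallySurjective (J S) α]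
  [Presheaf.IsLocallyInjective (J S) β] [Presheaf.IsLocallySurjective (J S) β]

include hsq in
theorem app_sq {T : Over S} (s : F.obj (op T)) : a'.app _ (α.app _ s) = β.app _ (a.app _ s) := by
  have := congrArg (fun k : F ⟶ G' => k.app (op T) s) hsq
  simpa using this

include hsq in
/-- A point upstairs lifts, compatibly with a given lift of its image. -/
theorem exists_cov_lift {T : Over S} [IsAffine T.left] (x : F'.obj (op T)) (t : G.obj (op T))
    (h : a'.app _ x = β.app _ t) :
    ∃ (κ : Type u) (W : κ → Over S) (w : ∀ n, W n ⟶ T), IsAffCov W w ∧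
      ∀ n, ∃ s, α.app _ s = F'.map (w n).op x ∧ a.app _ s = G.map (w n).op t := by
  obtain ⟨κ₁, W₁, w₁, hW₁, h₁⟩ := exists_affCov_of_mem (Presheaf.imageSieve_mem (J S) α (U := op T) x)
  choose s hs using h₁
  have := hW₁.aff
  have h₂ := fun n => exists_affCov_of_mem (Presheaf.equalizerSieve_mem (J S) β (a.app _ (s n))
    (G.map (w₁ n).op t) (by
      rw [← app_sq a a' α β hsq, hs n, AlgSpPts.app_map', AlgSpPts.app_map', h]))
  choose κ₂ W₂ w₂ hW₂ h₂ using h₂
  refine ⟨_, _, _, hW₁.bind hW₂, fun q => ⟨F.map (w₂ q.1 q.2).op (s q.1), ?_, ?_⟩⟩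
  · rw [AlgSpPts.app_map', hs, AlgSpPts.map_map']
  · rw [AlgSpPts.app_map']
    exact (h₂ q.1 q.2).trans (AlgSpPts.map_map' G _ _ t)

variable {I : Type u} [SmallCategory I] [IsCofiltered I] {D : I ⥤ Over S} {c : Cone D} {i : I}

/-- Local lifts of two sections, with the same image. -/
def Q1 (z z' : F'.obj (op (D.obj i))) : StageProp D i := fun o W w =>
  ∃ s s' : F.obj (op W), α.app _ s = F'.map (w ≫ D.map o.hom).op z ∧
    α.app _ s' = F'.map (w ≫ D.map o.hom).op z' ∧ a.app _ s = a.app _ s'

/-- Local lifts of two sections, with the same image and agreeing on the limit. -/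
def Q2 (c : Cone D) (z z' : F'.obj (op (D.obj i))) : StageProp D i := fun o W w =>
  ∃ s s' : F.obj (op W), α.app _ s = F'.map (w ≫ D.map o.hom).op z ∧
    α.app _ s' = F'.map (w ≫ D.map o.hom).op z' ∧ a.app _ s = a.app _ s' ∧
    F.map (pullback.fst w (c.π.app o.left)).op s = F.map (pullback.fst w (c.π.app o.left)).op s'

/-- A local lift of a point of a stage, and of a point of the limit over it. -/
def Q3 (c : Cone D) (y : G'.obj (op (D.obj i))) (x : F'.obj (op c.pt)) : StageProp D i := fun o W w =>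
  ∃ (t : G.obj (op W)) (s : F.obj (op (pullback w (c.π.app o.left)))),
    β.app _ t = G'.map (w ≫ D.map o.hom).op y ∧
    α.app _ s = F'.map (pullback.snd w (c.π.app o.left)).op x ∧
    a.app _ s = G.map (pullback.fst w (c.π.app o.left)).op t

theorem isMono_Q1 (z z' : F'.obj (op (D.obj i))) : IsMono (Q1 a α z z') :=
  fun o o' φ W W' g w w' hw ⟨s, s', h, h', he⟩ => by
    refine ⟨F.map g.op s, F.map g.op s', ?_, ?_, by rw [AlgSpPts.app_map', AlgSpPts.app_map', he]⟩
    · rw [← CategoryTheory.Over.w φ, D.map_comp, reassoc_of% hw]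
      exact (AlgSpPts.app_map' α g s).trans ((congrArg _ h).trans (AlgSpPts.map_map' F' g _ z))
    · rw [← CategoryTheory.Over.w φ, D.map_comp, reassoc_of% hw]
      exact (AlgSpPts.app_map' α g s').trans ((congrArg _ h').trans (AlgSpPts.map_map' F' g _ z'))

theorem isMono_Q2 (z z' : F'.obj (op (D.obj i))) : IsMono (Q2 a α c z z') :=
  fun o o' φ W W' g w w' hw ⟨s, s', h, h', he, hl⟩ => by
    refine ⟨F.map g.op s, F.map g.op s', ?_, ?_, by rw [AlgSpPts.app_map', AlgSpPts.app_map', he], ?_⟩
    · rw [← CategoryTheory.Over.w φ, D.map_comp, reassoc_of% hw]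
      exact (AlgSpPts.app_map' α g s).trans ((congrArg _ h).trans (AlgSpPts.map_map' F' g _ z))
    · rw [← CategoryTheory.Over.w φ, D.map_comp, reassoc_of% hw]
      exact (AlgSpPts.app_map' α g s').trans ((congrArg _ h').trans (AlgSpPts.map_map' F' g _ z'))
    · let e : pullback w' (c.π.app o'.left) ⟶ pullback w (c.π.app o.left) :=
        pullback.lift (pullback.fst _ _ ≫ g) (pullback.snd _ _) (by
          rw [Category.assoc, ← hw, pullback.condition_assoc, c.w φ.left])
      rw [AlgSpPts.map_map', AlgSpPts.map_map',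
        show pullback.fst w' (c.π.app o'.left) ≫ g = e ≫ pullback.fst _ _ from
          (pullback.lift_fst _ _ _).symm, ← AlgSpPts.map_map' F e, ← AlgSpPts.map_map' F e, hl]

theorem isMono_Q3 (y : G'.obj (op (D.obj i))) (x : F'.obj (op c.pt)) : IsMono (Q3 a α β c y x) :=
  fun o o' φ W W' g w w' hw ⟨t, s, ht, hs, he⟩ => by
    let e : pullback w' (c.π.app o'.left) ⟶ pullback w (c.π.app o.left) :=
      pullback.lift (pullback.fst _ _ ≫ g) (pullback.snd _ _) (by
        rw [Category.assoc, ← hw, pullback.condition_assoc, c.w φ.left])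
    refine ⟨G.map g.op t, F.map e.op s, ?_, ?_, ?_⟩
    · rw [← CategoryTheory.Over.w φ, D.map_comp, reassoc_of% hw]
      exact (AlgSpPts.app_map' β g t).trans ((congrArg _ ht).trans (AlgSpPts.map_map' G' g _ y))
    · rw [AlgSpPts.app_map', hs, AlgSpPts.map_map']
      simp only [e, pullback.lift_snd]
      rfl
    · rw [AlgSpPts.app_map', he, AlgSpPts.map_map', AlgSpPts.map_map']
      simp only [e, pullback.lift_fst]

variable (hF' : Presheaf.IsSheaf (J S) F') (hG' : Presheaf.IsSheaf (J S) G') (ha : AlgSpPts.RelLP a)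

include hsq hF' ha in
theorem stageInj_of_locally : StageInj a' := by
  intro I _ _ D c hc hD hT i z z' hzz hlim
  have := hD
  refine exists_eq_of_local hF' ?_
  let o₀ : CategoryTheory.Over i := CategoryTheory.Over.mk (𝟙 i)
  have h1 : Local (Q1 a α z z') := by
    obtain ⟨κ₁, W₁, w₁, hW₁, h₁⟩ := exists_affCov_of_mem ((J S).intersection_covering
      (Presheaf.imageSieve_mem (J S) α (U := op (D.obj i)) z) (Presheaf.imageSieve_mem (J S) α (U := op (D.obj i)) z'))
    have := hW₁.aff
    choose s hs using fun n => (h₁ n).1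
    choose s' hs' using fun n => (h₁ n).2
    choose κ₂ W₂ w₂ hW₂ h₂ using fun n => exists_affCov_of_mem (Presheaf.equalizerSieve_mem (J S) β
      (a.app _ (s n)) (a.app _ (s' n)) (by
        rw [← app_sq a a' α β hsq, ← app_sq a a' α β hsq, hs, hs', AlgSpPts.app_map',
          AlgSpPts.app_map', hzz]))
    refine ⟨o₀, _, _, _, hW₁.bind hW₂, fun q =>
      ⟨F.map (w₂ q.1 q.2).op (s q.1), F.map (w₂ q.1 q.2).op (s' q.1), ?_, ?_, ?_⟩⟩
    · rw [AlgSpPts.app_map', hs, AlgSpPts.map_map', show D.map o₀.hom = 𝟙 _ from D.map_id i,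
        Category.comp_id]
    · rw [AlgSpPts.app_map', hs', AlgSpPts.map_map', show D.map o₀.hom = 𝟙 _ from D.map_id i,
        Category.comp_id]
    · rw [AlgSpPts.app_map', AlgSpPts.app_map']
      exact h₂ q.1 q.2
  have h2 : Local (Q2 a α c z z') := h1.bind hD (isMono_Q2 a α z z') fun o W _ w ⟨s, s', h, h', he⟩ => by
    have : IsAffine (((Functor.const I).obj c.pt).obj o.left).left := hT
    have : IsAffine (pullback w (c.π.app o.left)).left := isAffine_pullback _ _
    obtain ⟨κ, U, u, hU, hu⟩ := exists_affCov_of_mem (Presheaf.equalizerSieve_mem (J S) α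
      (F.map (pullback.fst w (c.π.app o.left)).op s) (F.map (pullback.fst w (c.π.app o.left)).op s') (by
        rw [AlgSpPts.app_map', AlgSpPts.app_map', h, h', AlgSpPts.map_map', AlgSpPts.map_map',
          pullback.condition_assoc, c.w, ← AlgSpPts.map_map' F', ← AlgSpPts.map_map' F']
        exact congrArg _ hlim))
    refine localAt_of_limit c hD hc hT w hU fun o' φ V _ v r hr n q hq => ?_
    refine ⟨F.map r.op s, F.map r.op s', ?_, ?_, by rw [AlgSpPts.app_map', AlgSpPts.app_map', he], ?_⟩
    · rw [← CategoryTheory.Over.w φ, D.map_comp, ← reassoc_of% hr]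
      exact (AlgSpPts.app_map' α r s).trans ((congrArg _ h).trans (AlgSpPts.map_map' F' r _ z))
    · rw [← CategoryTheory.Over.w φ, D.map_comp, ← reassoc_of% hr]
      exact (AlgSpPts.app_map' α r s').trans ((congrArg _ h').trans (AlgSpPts.map_map' F' r _ z'))
    · have e : pullback.fst v (c.π.app o'.left) ≫ r = q ≫ u n ≫ pullback.fst w (c.π.app o.left) := by
        rw [← Category.assoc q, hq, pullback.lift_fst]
      rw [AlgSpPts.map_map', AlgSpPts.map_map', e, ← AlgSpPts.map_map' F q, ← AlgSpPts.map_map' F q,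
        ← AlgSpPts.map_map' F (u n), ← AlgSpPts.map_map' F (u n)]
      exact congrArg _ (hu n)
  refine h2.bind hD (isMono_qEq z z') fun o W _ w ⟨s, s', h, h', he, hl⟩ => ?_
  obtain ⟨l, φ, hlf⟩ := exists_eq_along hD hc hT (a := a) ha.inj w s s' he hl
  refine localAt_of_stage hD w (o' := CategoryTheory.Over.mk (φ ≫ o.hom))
    (CategoryTheory.Over.homMk φ rfl) ?_
  show F'.map (pullback.snd w (D.map φ) ≫ D.map (φ ≫ o.hom)).op z =
    F'.map (pullback.snd w (D.map φ) ≫ D.map (φ ≫ o.hom)).op z'
  rw [D.map_comp, ← pullback.condition_assoc]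
  exact (((AlgSpPts.map_map' F' _ (w ≫ D.map o.hom) z).symm.trans (congrArg _ h.symm)).trans
    (AlgSpPts.app_map' α _ s).symm).trans ((congrArg _ hlf).trans ((AlgSpPts.app_map' α _ s').trans
      ((congrArg _ h').trans (AlgSpPts.map_map' F' _ (w ≫ D.map o.hom) z'))))

include hsq hF' hG' ha in
theorem relLP_of_locally : AlgSpPts.RelLP a' := by
  have hinj := stageInj_of_locally a a' α β hsq hF' ha
  refine ⟨fun I _ _ D c hc hD hT i y x hxy => ?_, hinj⟩
  have := hD
  let o₀ : CategoryTheory.Over i := CategoryTheory.Over.mk (𝟙 i)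
  refine exists_lift_of_local hD hc hT hF' hG' hinj ?_
  have h0 : Local (D := D) (i := i) (fun o W w => ∃ t : G.obj (op W), β.app _ t = G'.map (w ≫ D.map o.hom).op y) := by
    obtain ⟨κ, W, w, hW, h⟩ := exists_affCov_of_mem (Presheaf.imageSieve_mem (J S) β (U := op (D.obj i)) y)
    choose t ht using h
    refine ⟨o₀, κ, W, w, hW, fun n => ⟨t n, ?_⟩⟩
    rw [show D.map o₀.hom = 𝟙 _ from D.map_id i, Category.comp_id]
    exact ht n
  have h1 : Local (Q3 a α β c y x) := h0.bind hD (isMono_Q3 a α β y x) fun o W _ w ⟨t, ht⟩ => by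
    have : IsAffine (((Functor.const I).obj c.pt).obj o.left).left := hT
    have : IsAffine (pullback w (c.π.app o.left)).left := isAffine_pullback _ _
    obtain ⟨κ, U, u, hU, hu⟩ := exists_cov_lift a a' α β hsq
      (F'.map (pullback.snd w (c.π.app o.left)).op x) (G.map (pullback.fst w (c.π.app o.left)).op t) (by
        refine (AlgSpPts.app_map' a' _ x).trans ((congrArg _ hxy).trans ?_)
        rw [AlgSpPts.app_map', ht, AlgSpPts.map_map', pullback.condition_assoc, c.w]
        exact AlgSpPts.map_map' G' _ _ y)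
    choose s hs₁ hs₂ using hu
    refine localAt_of_limit c hD hc hT w hU fun o' φ V _ v r hr n q hq => ?_
    refine ⟨G.map r.op t, F.map q.op (s n), ?_, ?_, ?_⟩
    · rw [← CategoryTheory.Over.w φ, D.map_comp, ← reassoc_of% hr]
      exact (AlgSpPts.app_map' β r t).trans ((congrArg _ ht).trans (AlgSpPts.map_map' G' r _ y))
    · rw [AlgSpPts.app_map', hs₁, AlgSpPts.map_map', AlgSpPts.map_map', hq, pullback.lift_snd]
      rfl
    · rw [AlgSpPts.app_map', hs₂, AlgSpPts.map_map', AlgSpPts.map_map', AlgSpPts.map_map', hq,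
        pullback.lift_fst]
  refine h1.bind hD (isMono_qLift y x) fun o W _ w ⟨t, s, ht, hs, he⟩ => ?_
  obtain ⟨l, φ, z, hz₁, hz₂⟩ := exists_lift_along hD hc hT (a := a) ha.surj w t s he
  refine localAt_of_stage hD w (o' := CategoryTheory.Over.mk (φ ≫ o.hom))
    (CategoryTheory.Over.homMk φ rfl) ⟨α.app _ z, ?_, ?_⟩
  · show a'.app _ (α.app _ z) = G'.map (pullback.snd w (D.map φ) ≫ D.map (φ ≫ o.hom)).op y
    rw [app_sq a a' α β hsq, hz₁, AlgSpPts.app_map', ht, AlgSpPts.map_map', D.map_comp,
      pullback.condition_assoc]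
  · show F'.map (pullback.fst (pullback.snd w (D.map φ)) (c.π.app l)).op (α.app _ z) =
      F'.map (pullback.snd (pullback.snd w (D.map φ)) (c.π.app l)).op x
    let e : pullback (pullback.snd w (D.map φ)) (c.π.app l) ⟶ pullback w (c.π.app o.left) :=
      pullback.lift (pullback.fst _ _ ≫ pullback.fst _ _) (pullback.snd _ _) (by
        rw [Category.assoc, pullback.condition, pullback.condition_assoc, c.w φ])
    have he : pullback.fst (pullback.snd w (D.map φ)) (c.π.app l) =
        e ≫ pullback.lift (f := w) (g := D.map φ) (pullback.fst w (c.π.app o.left))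
          (pullback.snd w (c.π.app o.left) ≫ c.π.app l)
          (by rw [pullback.condition, Category.assoc, c.w φ]) := by
      apply pullback.hom_ext
      · simp [e]
      · simp only [e, Category.assoc, pullback.lift_snd, pullback.lift_snd_assoc]
        exact pullback.condition
    rw [he, ← AlgSpPts.app_map', ← AlgSpPts.map_map' F e, hz₂, AlgSpPts.app_map', hs, AlgSpPts.map_map']
    simp only [e, pullback.lift_snd]
    rfl

/-- The constant presheaf at a point. -/
abbrev pt (S : Scheme.{u}) : PSp S := (Functor.const (Over S)ᵒᵖ).obj PUnit.{u + 2}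

/-- The map to the point. -/
def toPt (F : PSp S) : F ⟶ pt S where
  app _ := ↾fun _ => PUnit.unit

theorem isLimitPreserving_of_relLP {G : PSp S} {a : F ⟶ G} (ha : AlgSpPts.RelLP a)
    (hG : ∀ T, Subsingleton (G.obj T)) (hG' : ∀ T, Nonempty (G.obj T)) : IsLimitPreserving F := by
  intro I _ _ D c hc hD hT
  refine ⟨Types.FilteredColimit.isColimitOf' _ _ (fun x => ?_) (fun i x x' h => ?_)⟩
  · obtain ⟨i⟩ := IsCofiltered.nonempty (C := I)
    obtain ⟨y⟩ := hG' (op (D.obj i))
    obtain ⟨k, f, z, -, hz⟩ := ha.surj D c hc hD hT i y x (@Subsingleton.elim _ (hG _) _ _)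
    exact ⟨op k, z, hz.symm⟩
  · obtain ⟨k, f, hk⟩ := ha.inj D c hc hD hT i.unop x x' (@Subsingleton.elim _ (hG _) _ _) h
    exact ⟨op k, f.op, hk⟩

theorem relLP_toPt_of_isLimitPreserving (hF : IsLimitPreserving F) : AlgSpPts.RelLP (toPt F) := by
  refine ⟨fun I _ _ D c hc hD hT i y x _ => ?_, fun I _ _ D c hc hD hT i x x' _ h => ?_⟩
  · obtain ⟨hcol⟩ := hF D c hc hD hT
    obtain ⟨j, z, hz⟩ := Types.jointly_surjective_of_isColimit hcol x
    obtain ⟨k, f, g, -⟩ := IsCofilteredOrEmpty.cone_objs i j.unop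
    refine ⟨k, f, F.map (D.map g).op z, rfl, ?_⟩
    rw [AlgSpPts.map_map', c.w g]
    exact hz
  · obtain ⟨hcol⟩ := hF D c hc hD hT
    obtain ⟨k, f, hk⟩ := (Types.FilteredColimit.isColimit_eq_iff' hcol x x').1 h
    exact ⟨k.unop, f.unop, hk⟩

theorem relLP_sheafify_map (ha : AlgSpPts.RelLP a) :
    AlgSpPts.RelLP ((presheafToSheaf (J S) (Type (u + 1))).map a).hom :=
  relLP_of_locally a _ (toSheafify (J S) F) (toSheafify (J S) G)
    (toSheafify_naturality (J S) a).symm
    (((presheafToSheaf (J S) (Type (u + 1))).obj F).property)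
    (((presheafToSheaf (J S) (Type (u + 1))).obj G).property) ha

theorem isLimitPreserving_sheafify (hF : IsLimitPreserving F) :
    IsLimitPreserving ((presheafToSheaf (J S) (Type (u + 1))).obj F).obj := by
  have hpt : Presheaf.IsSheaf (J S) (pt S) :=
    Presheaf.isSheaf_of_isTerminal (J S) Types.isTerminalPUnit
  let e : pt S ≅ ((presheafToSheaf (J S) (Type (u + 1))).obj (pt S)).obj := isoSheafify (J S) hpt
  refine isLimitPreserving_of_relLP (relLP_sheafify_map (toPt F) (relLP_toPt_of_isLimitPreserving hF))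
    (fun T => ?_) (fun T => ⟨e.hom.app T PUnit.unit⟩)
  have : Subsingleton ((pt S).obj T) := inferInstanceAs (Subsingleton PUnit.{u + 2})
  exact (e.app T).toEquiv.symm.subsingleton

end Groth.Agent.AlgSpLib.LimPresShf
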