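import Groth.Agent.AlgSpLib.LimPresShf.Cover
import Groth.Agent.AlgSpPts.LimPres

/-!
# Properties holding locally at some stage of a limit; glueing of sections at a stage
-/

set_option backward.isDefEq.respectTransparency false
set_option backward.isDefEq.respectTransparency.types false

universe u

open CategoryTheory Limits Opposite AlgebraicGeometry AlgSp

namespace Groth.Agent.AlgSpLib.LimPresShf

set_option linter.unusedSectionVars false

variable {S : Scheme.{u}} {I : Type u} [SmallCategory I] [IsCofiltered I]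

/-- Finitely many refinements of a stage are dominated by one. -/
theorem exists_common_refinement {k : I} {ι : Type u} [Finite ι] (l : ι → I) (φ : ∀ m, l m ⟶ k) :
    ∃ (l' : I) (ψ : l' ⟶ k) (χ : ∀ m, l' ⟶ l m), ∀ m, χ m ≫ φ m = ψ := by
  classical
  have := Fintype.ofFinite ι
  obtain ⟨ω, hω⟩ := IsCofiltered.inf_objs_exists
    (Finset.univ.image fun m => CategoryTheory.Over.mk (φ m))
  let α : ∀ m, ω ⟶ CategoryTheory.Over.mk (φ m) := fun m =>
    (hω (Finset.mem_image_of_mem _ (Finset.mem_univ m))).some
  exact ⟨ω.left, ω.hom, fun m => (α m).left, fun m => CategoryTheory.Over.w (α m)⟩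

variable (D : I ⥤ Over S) (c : Cone D) (i : I)

/-- A property of affine schemes over the stages. -/
abbrev StageProp : Type (u + 1) :=
  ∀ (o : CategoryTheory.Over i) ⦃W : Over S⦄, (W ⟶ D.obj o.left) → Prop

variable {D i}

/-- Stability under refinement. -/
def IsMono (Q : StageProp D i) : Prop :=
  ∀ ⦃o o' : CategoryTheory.Over i⦄ (φ : o' ⟶ o) ⦃W W' : Over S⦄ (g : W' ⟶ W) (w : W ⟶ D.obj o.left)
    (w' : W' ⟶ D.obj o'.left), w' ≫ D.map φ.left = g ≫ w → Q o w → Q o' w'

/-- The property holds on a finite affine covering of some stage. -/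
def Local (Q : StageProp D i) : Prop :=
  ∃ (o : CategoryTheory.Over i) (κ : Type u) (W : κ → Over S) (w : ∀ m, W m ⟶ D.obj o.left),
    IsAffCov W w ∧ ∀ m, Q o (w m)

/-- The property holds locally on a refinement of a scheme over a stage. -/
def LocalAt (Q : StageProp D i) (o : CategoryTheory.Over i) {W : Over S} (w : W ⟶ D.obj o.left) : Prop :=
  ∃ (o' : CategoryTheory.Over i) (φ : o' ⟶ o) (κ : Type u) (U : κ → Over S)
    (u : ∀ n, U n ⟶ pullback w (D.map φ.left)),
    IsAffCov U u ∧ ∀ n, Q o' (u n ≫ pullback.snd w (D.map φ.left))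

variable (hD : ∀ j, IsAffine (D.obj j).left)

theorem local_of_cov {Q : StageProp D i} {κ : Type u} {W : κ → Over S}
    {w : ∀ m, W m ⟶ D.obj (CategoryTheory.Over.mk (𝟙 i)).left} (hW : IsAffCov W w)
    (h : ∀ m, Q _ (w m)) : Local Q := ⟨_, κ, W, w, hW, h⟩

include hD in
theorem localAt_of_cov {Q : StageProp D i} (hQ : IsMono Q) {o : CategoryTheory.Over i} {W : Over S}
    [IsAffine W.left] (w : W ⟶ D.obj o.left) {κ : Type u} {U : κ → Over S} {u : ∀ n, U n ⟶ W}
    (hU : IsAffCov U u) (h : ∀ n, Q o (u n ≫ w)) : LocalAt Q o w := by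
  have := hD
  have : IsAffine (pullback w (D.map (Over.Hom.left (𝟙 o)))).left := isAffine_pullback _ _
  refine ⟨o, 𝟙 o, κ, _, _, hU.baseChange (pullback.fst w (D.map (Over.Hom.left (𝟙 o)))), fun n => ?_⟩
  refine hQ (𝟙 o) (pullback.fst _ _) _ _ ?_ (h n)
  rw [Category.assoc, ← pullback.condition, reassoc_of% pullback.condition (f := u n)]

include hD in
theorem localAt_of_stage {Q : StageProp D i} {o : CategoryTheory.Over i} {W : Over S}
    [IsAffine W.left] (w : W ⟶ D.obj o.left) {o' : CategoryTheory.Over i} (φ : o' ⟶ o)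
    (h : Q o' (pullback.snd w (D.map φ.left))) : LocalAt Q o w := by
  have := hD
  have : IsAffine (pullback w (D.map φ.left)).left := isAffine_pullback _ _
  exact ⟨o', φ, _, _, _, IsAffCov.refl _, fun n => by rw [Category.id_comp]; exact h⟩

include hD in
theorem Local.bind {Q Q' : StageProp D i} (hQ' : IsMono Q') (h : Local Q)
    (H : ∀ (o : CategoryTheory.Over i) ⦃W : Over S⦄ [IsAffine W.left] (w : W ⟶ D.obj o.left),
      Q o w → LocalAt Q' o w) : Local Q' := by
  have := hD
  obtain ⟨o, κ, W, w, hW, hQ⟩ := h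
  have := hW.finite
  have := hW.aff
  choose om φm κ' U u hU hQm using fun m => H o (w m) (hQ m)
  obtain ⟨l, ψ, χ, hχ⟩ := exists_common_refinement (fun m => (om m).left) (fun m => (φm m).left)
  let o' : CategoryTheory.Over i := CategoryTheory.Over.mk (ψ ≫ o.hom)
  let β : ∀ m, o' ⟶ om m := fun m => CategoryTheory.Over.homMk (χ m) (by
    show χ m ≫ (om m).hom = ψ ≫ o.hom
    rw [← CategoryTheory.Over.w (φm m), ← Category.assoc, hχ])
  let g : ∀ m, pullback (w m) (D.map ψ) ⟶ pullback (w m) (D.map (φm m).left) := fun m =>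
    pullback.lift (pullback.fst _ _) (pullback.snd _ _ ≫ D.map (χ m)) (by
      rw [pullback.condition, Category.assoc, ← D.map_comp, hχ])
  have : ∀ m, IsAffine (pullback (w m) (D.map ψ)).left := fun m => isAffine_pullback _ _
  have : ∀ m, IsAffine (pullback (w m) (D.map (φm m).left)).left := fun m => isAffine_pullback _ _
  refine ⟨o', _, _, _, (hW.baseChange (D.map ψ)).bind (fun m => (hU m).baseChange (g m)), fun q => ?_⟩
  refine hQ' (β q.1) (pullback.fst (u q.1 q.2) (g q.1)) _ _ ?_ (hQm q.1 q.2)
  show (pullback.snd (u q.1 q.2) (g q.1) ≫ pullback.snd (w q.1) (D.map ψ)) ≫ D.map (χ q.1) = _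
  rw [reassoc_of% pullback.condition (f := u q.1 q.2)]
  simp [g]

include hD in
/-- A covering of a limit fibre is refined at a stage. -/
theorem localAt_of_limit {Q : StageProp D i} (hc : IsLimit ((Over.forget S).mapCone c))
    (hT : IsAffine c.pt.left) {o : CategoryTheory.Over i} {W : Over S} [IsAffine W.left]
    (w : W ⟶ D.obj o.left) {ι : Type u} {U : ι → Over S} {u : ∀ a, U a ⟶ pullback w (c.π.app o.left)}
    (hU : IsAffCov U u)
    (H : ∀ (o' : CategoryTheory.Over i) (φ : o' ⟶ o) ⦃V : Over S⦄ [IsAffine V.left]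
      (v : V ⟶ D.obj o'.left) (r : V ⟶ W) (hr : r ≫ w = v ≫ D.map φ.left) (a : ι)
      (q : pullback v (c.π.app o'.left) ⟶ U a),
      q ≫ u a = pullback.lift (pullback.fst _ _ ≫ r) (pullback.snd _ _)
        (by rw [Category.assoc, hr, reassoc_of% pullback.condition (f := v), c.w φ.left]) → Q o' v) :
    LocalAt Q o w := by
  have := IsCofiltered.isConnected I
  have hcO : IsLimit c := isLimitOfReflects (Over.forget S) hc
  have sq := IsPullback.of_hasPullback w (c.π.app o.left)
  obtain ⟨hcE⟩ := LimPresLfp.nonempty_isLimit_bcCone c hcO sq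
  have := hD
  have : ∀ k, IsAffine (((Functor.const I).obj c.pt).obj k).left := fun _ => hT
  have := IsCofiltered.isConnected (CategoryTheory.Over o.left)
  have : IsAffine (LimPresLfp.bcCone c sq.w).pt.left := isAffine_pullback _ _
  obtain ⟨k, κ, V, v, hV, hv⟩ := exists_descend_affCov (LimPresLfp.bc D w)
    (fun k => isAffine_pullback _ _) (LimPresLfp.bcCone c sq.w)
    (isLimitOfPreserves (Over.forget S) hcE) (U := U) (u := u) hU
  let o' : CategoryTheory.Over i := CategoryTheory.Over.mk (k.hom ≫ o.hom)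
  let φ : o' ⟶ o := CategoryTheory.Over.homMk k.hom rfl
  refine ⟨o', φ, κ, V, v, hV, fun m => ?_⟩
  obtain ⟨a, q, hq⟩ := hv m
  have := hV.aff m
  have hr : (v m ≫ pullback.fst w (D.map k.hom)) ≫ w =
      (v m ≫ pullback.snd w (D.map k.hom)) ≫ D.map φ.left := by
    rw [Category.assoc, Category.assoc]
    exact congrArg (v m ≫ ·) pullback.condition
  let P := pullback (v m ≫ pullback.snd w (D.map k.hom)) (c.π.app k.left)
  have hc₁ : (pullback.fst _ _ ≫ v m ≫ pullback.fst w (D.map k.hom) : P ⟶ W) ≫ w =
      pullback.snd _ _ ≫ c.π.app o.left := by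
    rw [Category.assoc, Category.assoc, pullback.condition,
      ← Category.assoc (v m) _ (D.map k.hom), reassoc_of% pullback.condition, c.w k.hom]
  let q' : P ⟶ pullback (v m) ((LimPresLfp.bcCone c sq.w).π.app k) :=
    pullback.lift (pullback.fst _ _) (pullback.lift _ _ hc₁) (by
      apply pullback.hom_ext
      · simp [LimPresLfp.bcCone]
      · simp [LimPresLfp.bcCone, P, ← pullback.condition])
  refine H o' φ _ (v m ≫ pullback.fst w (D.map k.hom)) hr a (q' ≫ q) ?_
  rw [Category.assoc, hq]
  exact pullback.lift_snd _ _ _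

section Sections

variable {F G : PSp S} (a : F ⟶ G)

/-- Injectivity at stages, as in `RelLP`. -/
def StageInj : Prop :=
  ∀ ⦃I : Type u⦄ [SmallCategory I] [IsCofiltered I] (D : I ⥤ Over S) (c : Cone D),
    IsLimit ((Over.forget S).mapCone c) → (∀ i, IsAffine (D.obj i).left) → IsAffine c.pt.left →
    ∀ (i : I) (x x' : F.obj (op (D.obj i))), a.app _ x = a.app _ x' →
      F.map (c.π.app i).op x = F.map (c.π.app i).op x' →
      ∃ (k : I) (f : k ⟶ i), F.map (D.map f).op x = F.map (D.map f).op x'

/-- Surjectivity at stages, as in `RelLP`. -/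
def StageSurj : Prop :=
  ∀ ⦃I : Type u⦄ [SmallCategory I] [IsCofiltered I] (D : I ⥤ Over S) (c : Cone D),
    IsLimit ((Over.forget S).mapCone c) → (∀ i, IsAffine (D.obj i).left) → IsAffine c.pt.left →
    ∀ (i : I) (y : G.obj (op (D.obj i))) (x : F.obj (op c.pt)), a.app _ x = G.map (c.π.app i).op y →
      ∃ (k : I) (f : k ⟶ i) (z : F.obj (op (D.obj k))),
        a.app _ z = G.map (D.map f).op y ∧ F.map (c.π.app k).op z = x

variable {a} {c} (hc : IsLimit ((Over.forget S).mapCone c)) (hT : IsAffine c.pt.left)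

include hD hc hT in
/-- Injectivity at stages, for an affine scheme over a stage. -/
theorem exists_eq_along (ha : StageInj a) {k : I} {P : Over S} [IsAffine P.left] (p : P ⟶ D.obj k)
    (x x' : F.obj (op P)) (h : a.app _ x = a.app _ x')
    (hlim : F.map (pullback.fst p (c.π.app k)).op x = F.map (pullback.fst p (c.π.app k)).op x') :
    ∃ (l : I) (φ : l ⟶ k),
      F.map (pullback.fst p (D.map φ)).op x = F.map (pullback.fst p (D.map φ)).op x' := by
  have := IsCofiltered.isConnected I
  have := IsCofiltered.isConnected (CategoryTheory.Over k)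
  have hcO : IsLimit c := isLimitOfReflects (Over.forget S) hc
  have sq := IsPullback.of_hasPullback p (c.π.app k)
  obtain ⟨hcE⟩ := LimPresLfp.nonempty_isLimit_bcCone c hcO sq
  have := hD
  have : ∀ k, IsAffine (((Functor.const I).obj c.pt).obj k).left := fun _ => hT
  let o₀ : CategoryTheory.Over k := CategoryTheory.Over.mk (𝟙 k)
  obtain ⟨o, f, hf⟩ := ha (LimPresLfp.bc D p) (LimPresLfp.bcCone c sq.w)
    (isLimitOfPreserves (Over.forget S) hcE) (fun o => isAffine_pullback _ _) (isAffine_pullback _ _) o₀
    (F.map (pullback.fst p (D.map o₀.hom)).op x) (F.map (pullback.fst p (D.map o₀.hom)).op x')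
    ((AlgSpPts.app_map' a (pullback.fst p (D.map o₀.hom)) x).trans
      ((congrArg _ h).trans (AlgSpPts.app_map' a (pullback.fst p (D.map o₀.hom)) x').symm))
    (by
      have e : (LimPresLfp.bcCone c sq.w).π.app o₀ ≫ pullback.fst p (D.map o₀.hom) =
          pullback.fst p (c.π.app k) := pullback.lift_fst _ _ _
      exact ((AlgSpPts.map_map' F _ _ x).trans (congrArg (fun r => F.map r.op x) e)).trans
        (hlim.trans ((AlgSpPts.map_map' F _ _ x').trans (congrArg (fun r => F.map r.op x') e)).symm))
  refine ⟨o.left, o.hom, ?_⟩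
  have e : (LimPresLfp.bc D p).map f ≫ pullback.fst p (D.map o₀.hom) = pullback.fst p (D.map o.hom) :=
    (pullback.lift_fst _ _ _).trans (Category.comp_id _)
  exact ((congrArg (fun r => F.map r.op x) e).symm.trans (AlgSpPts.map_map' F _ _ x).symm).trans
    (hf.trans ((AlgSpPts.map_map' F _ _ x').trans (congrArg (fun r => F.map r.op x') e)))

include hD hc hT in
/-- Surjectivity at stages, for an affine scheme over a stage. -/
theorem exists_lift_along (ha : StageSurj a) {k : I} {P : Over S} [IsAffine P.left] (p : P ⟶ D.obj k)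
    (y : G.obj (op P)) (x : F.obj (op (pullback p (c.π.app k))))
    (h : a.app _ x = G.map (pullback.fst p (c.π.app k)).op y) :
    ∃ (l : I) (φ : l ⟶ k) (z : F.obj (op (pullback p (D.map φ)))),
      a.app _ z = G.map (pullback.fst p (D.map φ)).op y ∧
      F.map (pullback.lift (f := p) (g := D.map φ) (pullback.fst p (c.π.app k))
        (pullback.snd p (c.π.app k) ≫ c.π.app l)
        (by rw [pullback.condition, Category.assoc, c.w φ])).op z = x := by
  have := IsCofiltered.isConnected I
  have := IsCofiltered.isConnected (CategoryTheory.Over k)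
  have hcO : IsLimit c := isLimitOfReflects (Over.forget S) hc
  have sq := IsPullback.of_hasPullback p (c.π.app k)
  obtain ⟨hcE⟩ := LimPresLfp.nonempty_isLimit_bcCone c hcO sq
  have := hD
  have : ∀ k, IsAffine (((Functor.const I).obj c.pt).obj k).left := fun _ => hT
  let o₀ : CategoryTheory.Over k := CategoryTheory.Over.mk (𝟙 k)
  obtain ⟨o, f, z, hz₁, hz₂⟩ := ha (LimPresLfp.bc D p) (LimPresLfp.bcCone c sq.w)
    (isLimitOfPreserves (Over.forget S) hcE) (fun o => isAffine_pullback _ _) (isAffine_pullback _ _) o₀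
    (G.map (pullback.fst p (D.map o₀.hom)).op y) x
    (by
      have e : (LimPresLfp.bcCone c sq.w).π.app o₀ ≫ pullback.fst p (D.map o₀.hom) =
          pullback.fst p (c.π.app k) := pullback.lift_fst _ _ _
      exact h.trans ((AlgSpPts.map_map' G _ _ y).trans (congrArg (fun r => G.map r.op y) e)).symm)
  refine ⟨o.left, o.hom, z, ?_, hz₂⟩
  have e : (LimPresLfp.bc D p).map f ≫ pullback.fst p (D.map o₀.hom) = pullback.fst p (D.map o.hom) :=
    (pullback.lift_fst _ _ _).trans (Category.comp_id _)
  exact hz₁.trans ((AlgSpPts.map_map' G _ _ y).trans (congrArg (fun r => G.map r.op y) e))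

/-- Two sections agree on an affine scheme over a stage. -/
def QEq (z z' : F.obj (op (D.obj i))) : StageProp D i := fun o _ w =>
  F.map (w ≫ D.map o.hom).op z = F.map (w ≫ D.map o.hom).op z'

theorem isMono_qEq (z z' : F.obj (op (D.obj i))) : IsMono (QEq z z') := fun o o' φ W W' g w w' hw h => by
  show F.map _ z = F.map _ z'
  rw [← CategoryTheory.Over.w φ, D.map_comp, reassoc_of% hw]
  exact (AlgSpPts.map_map' F g _ z).symm.trans ((congrArg _ h).trans (AlgSpPts.map_map' F g _ z'))

theorem exists_eq_of_local (hF : Presheaf.IsSheaf (J S) F) {z z' : F.obj (op (D.obj i))}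
    (h : Local (QEq z z')) : ∃ (k : I) (f : k ⟶ i), F.map (D.map f).op z = F.map (D.map f).op z' := by
  obtain ⟨o, κ, W, w, hW, hQ⟩ := h
  refine ⟨o.left, o.hom, ext_of_affCov hF hW fun m => ?_⟩
  rw [AlgSpPts.map_map', AlgSpPts.map_map']
  exact hQ m

/-- A point of the limit lifts on an affine scheme over a stage. -/
def QLift (a : F ⟶ G) (y : G.obj (op (D.obj i))) (x : F.obj (op c.pt)) : StageProp D i := fun o _ w =>
  ∃ z, a.app _ z = G.map (w ≫ D.map o.hom).op y ∧
    F.map (pullback.fst w (c.π.app o.left)).op z = F.map (pullback.snd w (c.π.app o.left)).op x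

theorem isMono_qLift (y : G.obj (op (D.obj i))) (x : F.obj (op c.pt)) : IsMono (QLift a y x) :=
  fun o o' φ W W' g w w' hw ⟨z, hz₁, hz₂⟩ => by
    refine ⟨F.map g.op z, ?_, ?_⟩
    · rw [← CategoryTheory.Over.w φ, D.map_comp, reassoc_of% hw]
      exact (AlgSpPts.app_map' a g z).trans ((congrArg _ hz₁).trans (AlgSpPts.map_map' G g _ y))
    · let e : pullback w' (c.π.app o'.left) ⟶ pullback w (c.π.app o.left) :=
        pullback.lift (pullback.fst _ _ ≫ g) (pullback.snd _ _) (by
          rw [Category.assoc, ← hw, pullback.condition_assoc, c.w φ.left])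
      rw [AlgSpPts.map_map', show pullback.fst w' (c.π.app o'.left) ≫ g = e ≫ pullback.fst _ _ from
          (pullback.lift_fst _ _ _).symm, ← AlgSpPts.map_map', hz₂, AlgSpPts.map_map']
      simp only [e, pullback.lift_snd]
      rfl

include hD hc hT in
theorem exists_lift_of_local (hF : Presheaf.IsSheaf (J S) F) (hG : Presheaf.IsSheaf (J S) G)
    (ha : StageInj a) {y : G.obj (op (D.obj i))} {x : F.obj (op c.pt)}
    (h : Local (QLift a y x)) :
    ∃ (k : I) (f : k ⟶ i) (z : F.obj (op (D.obj k))),
      a.app _ z = G.map (D.map f).op y ∧ F.map (c.π.app k).op z = x := by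
  have := hD
  obtain ⟨o, κ, W, w, hW, hQ⟩ := h
  choose z hz₁ hz₂ using hQ
  have := hW.finite
  have := hW.aff
  have hPA : ∀ q : κ × κ, IsAffine (pullback (w q.1) (w q.2)).left := fun q => isAffine_pullback _ _
  -- agreement on the overlaps at a finer stage
  have hstage : ∀ q : κ × κ, ∃ (l : I) (φ : l ⟶ o.left),
      F.map (pullback.fst (pullback.fst (w q.1) (w q.2) ≫ w q.1) (D.map φ)).op
        (F.map (pullback.fst (w q.1) (w q.2)).op (z q.1)) =
      F.map (pullback.fst (pullback.fst (w q.1) (w q.2) ≫ w q.1) (D.map φ)).op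
        (F.map (pullback.snd (w q.1) (w q.2)).op (z q.2)) := by
    intro q
    have := hPA q
    let p := pullback.fst (w q.1) (w q.2) ≫ w q.1
    refine exists_eq_along hD hc hT ha p _ _ ?_ ?_
    · rw [AlgSpPts.app_map', AlgSpPts.app_map', hz₁, hz₁, AlgSpPts.map_map', AlgSpPts.map_map',
        pullback.condition_assoc]
    · let e₁ : pullback p (c.π.app o.left) ⟶ pullback (w q.1) (c.π.app o.left) :=
        pullback.lift (pullback.fst _ _ ≫ pullback.fst _ _) (pullback.snd _ _)
          (by rw [Category.assoc]; exact pullback.condition)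
      let e₂ : pullback p (c.π.app o.left) ⟶ pullback (w q.2) (c.π.app o.left) :=
        pullback.lift (pullback.fst _ _ ≫ pullback.snd _ _) (pullback.snd _ _)
          (by rw [Category.assoc, ← pullback.condition (f := w q.1)]; exact pullback.condition)
      rw [AlgSpPts.map_map', AlgSpPts.map_map',
        show pullback.fst p (c.π.app o.left) ≫ pullback.fst _ _ = e₁ ≫ pullback.fst _ _ from
          (pullback.lift_fst _ _ _).symm,
        show pullback.fst p (c.π.app o.left) ≫ pullback.snd _ _ = e₂ ≫ pullback.fst _ _ from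
          (pullback.lift_fst _ _ _).symm,
        ← AlgSpPts.map_map' F e₁, ← AlgSpPts.map_map' F e₂, hz₂, hz₂, AlgSpPts.map_map', AlgSpPts.map_map']
      simp only [e₁, e₂, pullback.lift_snd]
  choose l φ hl using hstage
  obtain ⟨k, ψ, χ, hχ⟩ := exists_common_refinement l φ
  have hW' := hW.baseChange (D.map ψ)
  let w' := fun m => pullback.snd (w m) (D.map ψ)
  obtain ⟨z₀, hz₀⟩ := exists_amalgamation hF hW'
    (fun m => F.map (pullback.fst (w m) (D.map ψ)).op (z m)) (fun m n => by
      let P' := pullback (w' m) (w' n)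
      let r : P' ⟶ pullback (w m) (w n) :=
        pullback.lift (pullback.fst _ _ ≫ pullback.fst _ _) (pullback.snd _ _ ≫ pullback.fst _ _) (by
          rw [Category.assoc, Category.assoc, pullback.condition, pullback.condition (f := w n)]
          exact pullback.condition_assoc (D.map ψ))
      let e : P' ⟶ pullback (pullback.fst (w m) (w n) ≫ w m) (D.map (φ (m, n))) :=
        pullback.lift r ((pullback.fst _ _ ≫ w' m) ≫ D.map (χ (m, n))) (by
          rw [Category.assoc, Category.assoc, ← D.map_comp, hχ]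
          simp only [r, pullback.lift_fst_assoc, Category.assoc, w']
          rw [pullback.condition])
      have := congrArg (F.map e.op) (hl (m, n))
      rw [AlgSpPts.map_map', AlgSpPts.map_map', AlgSpPts.map_map', AlgSpPts.map_map'] at this
      simp only [e, r, pullback.lift_fst, pullback.lift_snd, Category.assoc] at this
      rw [AlgSpPts.map_map', AlgSpPts.map_map']
      exact this)
  refine ⟨k, ψ ≫ o.hom, z₀, ext_of_affCov hG hW' fun m => ?_, ?_⟩
  · rw [← AlgSpPts.app_map', hz₀, AlgSpPts.app_map', hz₁, AlgSpPts.map_map', AlgSpPts.map_map',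
      D.map_comp, pullback.condition_assoc]
  · have : ∀ k, IsAffine (((Functor.const I).obj c.pt).obj k).left := fun _ => hT
    have := hW'.baseChange (c.π.app k)
    refine ext_of_affCov hF this fun m => ?_
    let e : pullback (w' m) (c.π.app k) ⟶ pullback (w m) (c.π.app o.left) :=
      pullback.lift (pullback.fst _ _ ≫ pullback.fst _ _) (pullback.snd _ _) (by
        rw [Category.assoc, pullback.condition (f := w m), ← c.w ψ]
        exact pullback.condition_assoc (D.map ψ))
    rw [AlgSpPts.map_map', ← pullback.condition, ← AlgSpPts.map_map', hz₀, AlgSpPts.map_map',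
      show pullback.fst (w' m) (c.π.app k) ≫ pullback.fst _ _ = e ≫ pullback.fst _ _ from
        (pullback.lift_fst _ _ _).symm, ← AlgSpPts.map_map', hz₂, AlgSpPts.map_map']
    simp only [e, pullback.lift_snd]
    rfl

end Sections

end Groth.Agent.AlgSpLib.LimPresShf
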